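import Mathlib
import Groth.Agent.Lib.Helper84.Affn.KerAct

/-!
# Noetherian charts and the kernel of the affinization on locally Noetherian schemes (helper84)
-/

set_option autoImplicit false
set_option linter.unusedSectionVars false
universe u
open CategoryTheory CategoryTheory.Limits MonoidalCategory CartesianMonoidalCategory MonObj
  AlgebraicGeometry CoactBr TensorProduct

namespace Groth.Agent.Lib.Helper84.Affn

open Groth.Agent.Lib.Helper84.Rosenlicht.Sch

variable {k : Type u} [Field k]

theorem exists_chart_of_mem_noeth (X : Over (Spec (CommRingCat.of k))) [IsIntegral X.left]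
    [IsLocallyNoetherian X.left] (x : X.left) :
    ∃ (A : Type u) (_ : CommRing A) (_ : IsDomain A) (_ : Algebra k A)
      (_ : IsNoetherianRing A) (i : sp k A ⟶ X) (_ : IsOpenImmersion i.left),
      x ∈ Set.range i.left := by
  obtain ⟨_, ⟨U, hU : IsAffineOpen U, rfl⟩, hxU, -⟩ :=
    X.left.isBasis_affineOpens.exists_subset_of_mem_open (Set.mem_univ x) isOpen_univ
  haveI : Nonempty U := ⟨⟨x, hxU⟩⟩
  obtain ⟨ψ, hψ⟩ := Spec.map_surjective (hU.fromSpec ≫ X.hom)
  letI alg : Algebra k Γ(X.left, U) := ψ.hom.toAlgebra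
  have hN : IsNoetherianRing Γ(X.left, U) := IsLocallyNoetherian.component_noetherian ⟨U, hU⟩
  refine ⟨Γ(X.left, U), inferInstance, inferInstance, alg, hN,
    Over.homMk hU.fromSpec hψ.symm, ?_, ?_⟩
  · show IsOpenImmersion hU.fromSpec
    infer_instance
  · show x ∈ Set.range hU.fromSpec
    rw [hU.range_fromSpec]
    exact hxU

theorem exists_chart_noeth (X : Over (Spec (CommRingCat.of k))) [IsIntegral X.left]
    [IsLocallyNoetherian X.left] (x₀ : 𝟙_ (Over (Spec (CommRingCat.of k))) ⟶ X) :
    ∃ (A : Type u) (_ : CommRing A) (_ : IsDomain A) (_ : Algebra k A)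
      (_ : IsNoetherianRing A) (i : sp k A ⟶ X) (_ : IsOpenImmersion i.left)
      (a : A →ₐ[k] k), x₀ = ptOf a ≫ i := by
  let p₀ : Spec (CommRingCat.of k) := IsLocalRing.closedPoint k
  obtain ⟨A, _, _, _, hft, i, hi, hx⟩ := exists_chart_of_mem_noeth X (x₀.left p₀)
  have hsub : Subsingleton ↥(𝟙_ (Over (Spec (CommRingCat.of k)))).left :=
    inferInstanceAs (Subsingleton (PrimeSpectrum k))
  haveI := hi
  have hrange : Set.range x₀.left ⊆ Set.range i.left := by
    rintro _ ⟨p, rfl⟩
    rw [Subsingleton.elim p p₀]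
    exact hx
  let l := IsOpenImmersion.lift i.left x₀.left hrange
  have hl : l ≫ i.left = x₀.left := IsOpenImmersion.lift_fac _ _ _
  obtain ⟨a₀, ha₀⟩ := Spec.map_surjective (R := CommRingCat.of A) (S := CommRingCat.of k) l
  have hcomm : CommRingCat.ofHom (algebraMap k A) ≫ a₀ = 𝟙 _ := by
    apply Spec.map_injective
    rw [Spec.map_comp, ha₀, Spec.map_id]
    have hw : i.left ≫ X.hom = Spec.map (CommRingCat.ofHom (algebraMap k A)) := Over.w i
    have hw0 : x₀.left ≫ X.hom = 𝟙 _ := Over.w x₀
    rw [← hw]
    exact (Category.assoc l i.left X.hom).symm.trans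
      ((congrArg (fun m => m ≫ X.hom) hl).trans hw0)
  let a : A →ₐ[k] k :=
    { a₀.hom with
      commutes' := fun c => by
        have := ConcreteCategory.congr_hom hcomm c
        exact this }
  refine ⟨A, inferInstance, inferInstance, inferInstance, hft, i, hi, a, ?_⟩
  apply Over.OverMorphism.ext
  show x₀.left = (𝟙 _ ≫ Spec.map (CommRingCat.ofHom a.toRingHom)) ≫ i.left
  rw [Category.id_comp, ← hl, ← ha₀]
  rfl

variable {G X : Over (Spec (CommRingCat.of k))} [GrpObj G]
  [CompactSpace G.left] [QuasiSeparatedSpace G.left] (act : AlgGrp.Action G X)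
  [IsSeparated X.hom]

/-- **the kernel of the affinization acts trivially** on an integral separated locally Noetherian
`k`-scheme on which `G` acts with a fixed rational point. -/
theorem act_eq_of_affMap_eq_noeth [IsIntegral X.left] [IsLocallyNoetherian X.left]
    (x₀ : 𝟙_ (Over (Spec (CommRingCat.of k))) ⟶ X) (hx : act.IsFixedPt x₀)
    {T : Over (Spec (CommRingCat.of k))} (g : T ⟶ G)
    (hg : g ≫ affMap G = (1 : T ⟶ G) ≫ affMap G) (y : T ⟶ X) :
    lift g y ≫ act.act = y := by
  obtain ⟨A, _, _, _, hN, i, hi, a, hx₀⟩ := exists_chart_noeth X x₀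
  exact act_eq_of_chart act a i x₀ hx hx₀ g hg y

/-- a qcqs `k`-group acting faithfully with a fixed rational point on an integral separated
locally Noetherian `k`-scheme is affine. -/
theorem isAffine_of_faithful_of_fixedPt [LocallyOfFiniteType G.hom] [QuasiCompact G.hom]
    [IsIntegral X.left] [IsLocallyNoetherian X.left]
    (hf : ∀ (T : Over (Spec (CommRingCat.of k))) (g : T ⟶ G),
      (∀ (T' : Over (Spec (CommRingCat.of k))) (t : T' ⟶ T) (x : T' ⟶ X),
        lift (t ≫ g) x ≫ act.act = x) → g = 1)
    (P : 𝟙_ _ ⟶ X) (hP : act.IsFixedPt P) : IsAffine G.left := by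
  obtain ⟨inst, hmon⟩ := exists_grpObj_affObj G
  have hker : ∀ (T : Over (Spec (CommRingCat.of k))) (g : T ⟶ G),
      g ≫ affMap G = 1 → g = 1 := by
    intro T g hg
    apply hf T g
    intro T' t x
    apply act_eq_of_affMap_eq_noeth act P hP
    rw [Category.assoc, hg, MonObj.comp_one, MonObj.one_comp]
  have hmono : Mono (affMap G) := by
    constructor
    intro T x y hxy
    have h1 : (x * y⁻¹) ≫ affMap G = 1 := by
      rw [MonObj.mul_comp, GrpObj.inv_comp, hxy, mul_inv_cancel]
    have h2 := hker T _ h1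
    exact mul_inv_eq_one.mp h2
  have hmono' : Mono (affMap G).left :=
    inferInstanceAs (Mono ((Over.forget _).map (affMap G)))
  have hlft : LocallyOfFiniteType (affMap G).left := by
    have h3 : LocallyOfFiniteType ((affMap G).left ≫ (affObj G).hom) := by
      rw [Over.w]; infer_instance
    exact locallyOfFiniteType_of_comp _ (affObj G).hom
  have hqc : QuasiCompact (affMap G).left := by
    have h3 : QuasiCompact ((affMap G).left ≫ (affObj G).hom) := by
      rw [Over.w]; infer_instance
    exact QuasiCompact.of_comp _ (affObj G).hom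
  exact isAffine_of_mono_grp G (affMap G).left

end Groth.Agent.Lib.Helper84.Affn
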