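import Mathlib
import Groth.Prelude.Def_CoactBr
import Groth.Agent.Lib.Helper68.AffQuot

/-!
# Natural transformations on affine-valued points are induced by morphisms (helper84)

`exists_hom_of_natural` : for `k`-schemes `X`, `Y`, a family of maps
`θ B : (sp k B ⟶ X) → (sp k B ⟶ Y)`, natural in the `k`-algebra `B`, is induced by a unique
morphism `X ⟶ Y`.
-/

set_option autoImplicit false
universe v u
open CategoryTheory CategoryTheory.Limits AlgebraicGeometry CoactBr

namespace Groth.Agent.Lib.Helper84.Affn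

section Cat

variable {𝒞 : Type u} [Category.{v} 𝒞] {A B C D E : 𝒞}

theorem assoc4 (a : A ⟶ B) (b : B ⟶ C) (c : C ⟶ D) (d : D ⟶ E) :
    (a ≫ b ≫ c) ≫ d = a ≫ b ≫ c ≫ d := by simp

theorem cancel_iso_mid (w : A ⟶ B) (p : B ⟶ C) (e : D ≅ C) (f : C ⟶ E) (g : D ⟶ E)
    (hg : g = e.hom ≫ f) : (w ≫ p ≫ e.inv) ≫ g = w ≫ p ≫ f := by
  rw [hg]; simp

end Cat

/-- two morphisms of schemes agreeing on all affine-valued points agree. -/
theorem scheme_hom_ext_of_affine {P Z : Scheme.{u}} (a b : P ⟶ Z)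
    (h : ∀ (C : Type u) [CommRing C] (w : Spec (CommRingCat.of C) ⟶ P), w ≫ a = w ≫ b) :
    a = b := by
  apply Scheme.Cover.hom_ext P.affineCover
  intro j
  have h1 := h Γ(P.affineCover.X j, ⊤) ((P.affineCover.X j).isoSpec.inv ≫ P.affineCover.f j)
  have h2 : (P.affineCover.X j).isoSpec.inv ≫ (P.affineCover.f j ≫ a) =
      (P.affineCover.X j).isoSpec.inv ≫ (P.affineCover.f j ≫ b) :=
    (Category.assoc _ _ _).symm.trans (h1.trans (Category.assoc _ _ _))
  exact (cancel_epi (P.affineCover.X j).isoSpec.inv).mp h2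

variable {k : Type u} [CommRing k]

/-- morphisms between affine schemes compatible with the structure maps to `Spec k` are points. -/
theorem exists_algHom_of_specHom {B C : Type u} [CommRing B] [CommRing C] [Algebra k B]
    [Algebra k C] (a : Spec (CommRingCat.of C) ⟶ Spec (CommRingCat.of B))
    (ha : a ≫ Spec.map (CommRingCat.ofHom (algebraMap k B)) =
      Spec.map (CommRingCat.ofHom (algebraMap k C))) :
    ∃ φ : B →ₐ[k] C, (pt φ).left = a := by
  let a' : sp k C ⟶ sp k B := Over.homMk a ha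
  obtain ⟨φ, hφ⟩ := Groth.Agent.Lib.Helper68.AffQuot.exists_pt_eq a'
  exact ⟨φ, congrArg (fun m => m.left) hφ⟩

variable {X Y : Over (Spec (CommRingCat.of k))}
  (θ : ∀ (B : Type u) [CommRing B] [Algebra k B], (sp k B ⟶ X) → (sp k B ⟶ Y))
  (hθ : ∀ (B B' : Type u) [CommRing B] [Algebra k B] [CommRing B'] [Algebra k B']
    (φ : B →ₐ[k] B') (g : sp k B ⟶ X), θ B' (pt φ ≫ g) = pt φ ≫ θ B g)

/-- the underlying morphism of a point, with affine source spelled as `Spec`. -/
noncomputable def ptL {B : Type u} [CommRing B] [Algebra k B] {Z : Over (Spec (CommRingCat.of k))}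
    (g : sp k B ⟶ Z) : Spec (CommRingCat.of B) ⟶ Z.left := g.left

theorem ptL_w {B : Type u} [CommRing B] [Algebra k B] {Z : Over (Spec (CommRingCat.of k))}
    (g : sp k B ⟶ Z) : ptL g ≫ Z.hom = Spec.map (CommRingCat.ofHom (algebraMap k B)) := Over.w g

include hθ in
/-- the key compatibility: naturality on a common affine refinement. -/
theorem theta_compat {B B' : Type u} [CommRing B] [Algebra k B] [CommRing B'] [Algebra k B']
    (g : sp k B ⟶ X) (g' : sp k B' ⟶ X) {C : Type u} [CommRing C]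
    (a : Spec (CommRingCat.of C) ⟶ Spec (CommRingCat.of B))
    (b : Spec (CommRingCat.of C) ⟶ Spec (CommRingCat.of B'))
    (hab : a ≫ ptL g = b ≫ ptL g') :
    a ≫ ptL (θ B g) = b ≫ ptL (θ B' g') := by
  obtain ⟨ψ, hψ⟩ := Spec.map_surjective
    (a ≫ Spec.map (CommRingCat.ofHom (algebraMap k B)))
  let alg : Algebra k C := ψ.hom.toAlgebra
  have ha : a ≫ Spec.map (CommRingCat.ofHom (algebraMap k B)) =
      Spec.map (CommRingCat.ofHom (algebraMap k C)) := hψ.symm
  have hb : b ≫ Spec.map (CommRingCat.ofHom (algebraMap k B')) =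
      Spec.map (CommRingCat.ofHom (algebraMap k C)) := by
    rw [← ptL_w g', ← Category.assoc, ← hab, Category.assoc, ptL_w g]
    exact ha
  obtain ⟨φ, hφ⟩ := exists_algHom_of_specHom a ha
  obtain ⟨φ', hφ'⟩ := exists_algHom_of_specHom b hb
  have e1 : pt φ ≫ g = pt φ' ≫ g' := by
    apply Over.OverMorphism.ext
    show (pt φ).left ≫ ptL g = (pt φ').left ≫ ptL g'
    rw [hφ, hφ']
    exact hab
  have e2 : pt φ ≫ θ B g = pt φ' ≫ θ B' g' := by
    rw [← hθ, ← hθ, e1]
  have e3 := congrArg (fun m => m.left) e2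
  have e4 : (pt φ).left ≫ ptL (θ B g) = (pt φ').left ≫ ptL (θ B' g') := e3
  rw [hφ, hφ'] at e4
  exact e4

/-- an affine chart of a `k`-scheme as a point. -/
theorem exists_chart_point (X : Over (Spec (CommRingCat.of k))) (i : X.left.affineCover.I₀) :
    ∃ (B : Type u) (_ : CommRing B) (_ : Algebra k B)
      (e : Spec (CommRingCat.of B) ≅ X.left.affineCover.X i) (g : sp k B ⟶ X),
      ptL g = e.hom ≫ X.left.affineCover.f i := by
  let Y := X.left.affineCover.X i
  let e : Spec (CommRingCat.of Γ(Y, ⊤)) ≅ Y := Y.isoSpec.symm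
  obtain ⟨ψ, hψ⟩ := Spec.map_surjective ((e.hom ≫ X.left.affineCover.f i) ≫ X.hom)
  let alg : Algebra k Γ(Y, ⊤) := ψ.hom.toAlgebra
  exact ⟨Γ(Y, ⊤), inferInstance, alg, e, Over.homMk (e.hom ≫ X.left.affineCover.f i) hψ.symm, rfl⟩

include hθ in
/-- **a natural transformation on affine-valued points is induced by a morphism.** -/
theorem exists_hom_of_natural :
    ∃ r : X ⟶ Y, ∀ (B : Type u) [CommRing B] [Algebra k B] (g : sp k B ⟶ X), g ≫ r = θ B g := by
  choose Bi hBi1 hBi2 e g hg using exists_chart_point X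
  let ri : ∀ i, X.left.affineCover.X i ⟶ Y.left := fun i => (e i).inv ≫ ptL (θ (Bi i) (g i))
  have hcompat : ∀ i j, pullback.fst (X.left.affineCover.f i) (X.left.affineCover.f j) ≫ ri i =
      pullback.snd (X.left.affineCover.f i) (X.left.affineCover.f j) ≫ ri j := by
    intro i j
    apply scheme_hom_ext_of_affine
    intro C _ w
    have h1 := theta_compat θ hθ (g i) (g j)
      (w ≫ pullback.fst (X.left.affineCover.f i) (X.left.affineCover.f j) ≫ (e i).inv)
      (w ≫ pullback.snd (X.left.affineCover.f i) (X.left.affineCover.f j) ≫ (e j).inv) (by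
        rw [cancel_iso_mid _ _ (e i) _ _ (hg i), cancel_iso_mid _ _ (e j) _ _ (hg j),
          pullback.condition])
    exact (assoc4 _ _ _ _).symm.trans (h1.trans (assoc4 _ _ _ _))
  let r₀ : X.left ⟶ Y.left := X.left.affineCover.glueMorphisms ri hcompat
  have hr₀ : ∀ i, X.left.affineCover.f i ≫ r₀ = ri i :=
    fun i => X.left.affineCover.ι_glueMorphisms ri hcompat i
  have hw : r₀ ≫ Y.hom = X.hom := by
    apply Scheme.Cover.hom_ext X.left.affineCover
    intro i
    rw [← Category.assoc, hr₀]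
    have h1 : ri i ≫ Y.hom = (e i).inv ≫ (ptL (θ (Bi i) (g i)) ≫ Y.hom) := Category.assoc _ _ _
    rw [h1, ptL_w, ← ptL_w (g i), hg i]
    simp only [Category.assoc, Iso.inv_hom_id_assoc]
  refine ⟨Over.homMk r₀ hw, ?_⟩
  intro B _ _ g₀
  apply Over.OverMorphism.ext
  show ptL g₀ ≫ r₀ = ptL (θ B g₀)
  apply Scheme.Cover.hom_ext (X.left.affineCover.pullback₁ (ptL g₀))
  intro (i : X.left.affineCover.I₀)
  show pullback.fst (ptL g₀) (X.left.affineCover.f i) ≫ ptL g₀ ≫ r₀ =
    pullback.fst (ptL g₀) (X.left.affineCover.f i) ≫ ptL (θ B g₀)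
  rw [← Category.assoc, pullback.condition, Category.assoc, hr₀]
  apply scheme_hom_ext_of_affine
  intro C _ w
  have h1 := theta_compat θ hθ g₀ (g i)
    (w ≫ pullback.fst (ptL g₀) (X.left.affineCover.f i))
    (w ≫ pullback.snd (ptL g₀) (X.left.affineCover.f i) ≫ (e i).inv) (by
      rw [cancel_iso_mid _ _ (e i) _ _ (hg i), Category.assoc, pullback.condition])
  exact ((assoc4 _ _ _ _).symm.trans (h1.symm.trans (Category.assoc _ _ _)))

end Groth.Agent.Lib.Helper84.Affn
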