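import Mathlib
import Groth.Agent.Lib.Helper84.Affn.GlueAffPts
import Groth.Agent.Lib.Helper84.AffSp.Points

/-!
# Natural families of elements on affine-valued points are global functions (helper84)
-/

set_option autoImplicit false
universe u
open CategoryTheory CategoryTheory.Limits AlgebraicGeometry CoactBr

namespace Groth.Agent.Lib.Helper84.Affn

open Groth.Agent.Lib.Helper84.AffSp

variable {k : Type u} [CommRing k]

/-- an element of `B` as a global function on `sp k B`. -/
noncomputable def gInv (B : Type u) [CommRing B] [Algebra k B] (a : B) :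
    Γ((sp k B).left, ⊤) := (Scheme.ΓSpecIso (CommRingCat.of B)).inv a

/-- a global function on `sp k B` as an element of `B`. -/
noncomputable def gHom (B : Type u) [CommRing B] [Algebra k B] (s : Γ((sp k B).left, ⊤)) : B :=
  (Scheme.ΓSpecIso (CommRingCat.of B)).hom s

theorem gHom_gInv (B : Type u) [CommRing B] [Algebra k B] (a : B) :
    gHom (k := k) B (gInv B a) = a :=
  Iso.inv_hom_id_apply (C := CommRingCat) _ _

theorem gInv_gHom (B : Type u) [CommRing B] [Algebra k B] (s : Γ((sp k B).left, ⊤)) :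
    gInv (k := k) B (gHom B s) = s :=
  Iso.hom_inv_id_apply (C := CommRingCat) _ _

theorem pt_appTop_gInv {B B' : Type u} [CommRing B] [Algebra k B] [CommRing B'] [Algebra k B']
    (φ : B →ₐ[k] B') (a : B) :
    (pt φ).left.appTop (gInv B a) = gInv B' (φ a) := by
  have h := Scheme.ΓSpecIso_inv_naturality (CommRingCat.ofHom φ.toRingHom)
  exact (congrArg (fun m => m.hom a) h).symm

theorem gHom_pt_appTop {B B' : Type u} [CommRing B] [Algebra k B] [CommRing B'] [Algebra k B']
    (φ : B →ₐ[k] B') (s : Γ((sp k B).left, ⊤)) :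
    gHom B' ((pt φ).left.appTop s) = φ (gHom B s) := by
  rw [← gInv_gHom B s, pt_appTop_gInv, gHom_gInv, gHom_gInv]

/-- **a natural family of elements `c B g ∈ B` attached to the affine-valued points of a
`k`-scheme is given by a global function.** -/
theorem exists_fn_of_natural {X : Over (Spec (CommRingCat.of k))}
    (c : ∀ (B : Type u) [CommRing B] [Algebra k B], (sp k B ⟶ X) → B)
    (hc : ∀ (B B' : Type u) [CommRing B] [Algebra k B] [CommRing B'] [Algebra k B']
      (φ : B →ₐ[k] B') (g : sp k B ⟶ X), c B' (pt φ ≫ g) = φ (c B g)) :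
    ∃ f : Γ(X.left, ⊤), ∀ (B : Type u) [CommRing B] [Algebra k B] (g : sp k B ⟶ X),
      gHom B (g.left.appTop f) = c B g := by
  let θ : ∀ (B : Type u) [CommRing B] [Algebra k B], (sp k B ⟶ X) → (sp k B ⟶ An k 1) :=
    fun B _ _ g => vecPt (fun _ => gInv B (c B g))
  have hθ : ∀ (B B' : Type u) [CommRing B] [Algebra k B] [CommRing B'] [Algebra k B']
      (φ : B →ₐ[k] B') (g : sp k B ⟶ X), θ B' (pt φ ≫ g) = pt φ ≫ θ B g := by
    intro B B' _ _ _ _ φ g
    show vecPt (fun _ => gInv B' (c B' (pt φ ≫ g))) = pt φ ≫ vecPt (fun _ => gInv B (c B g))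
    rw [comp_vecPt]
    congr 1
    ext i
    rw [hc, pt_appTop_gInv]
  obtain ⟨r, hr⟩ := exists_hom_of_natural θ hθ
  refine ⟨coords r 0, ?_⟩
  intro B _ _ g
  rw [← coords_comp, hr]
  show gHom B (coords (vecPt (fun _ => gInv B (c B g))) 0) = _
  rw [coords_vecPt, gHom_gInv]

end Groth.Agent.Lib.Helper84.Affn
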