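import Mathlib
import Groth.Prelude.Def_VecGrp
import Groth.Agent.Lib.Helper84.Affn.GlueFn
import Groth.Agent.Lib.Helper84.Affn.Basic

/-!
# Matrix coefficients of a `G`-module are global functions; the kernel of the affinization acts
trivially on every `G`-module (helper84)
-/

set_option autoImplicit false
set_option linter.unusedSectionVars false
universe u
open CategoryTheory CategoryTheory.Limits MonoidalCategory CartesianMonoidalCategory MonObj
  AlgebraicGeometry CoactBr TensorProduct

namespace Groth.Agent.Lib.Helper84.Affn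

variable {k : Type u} [Field k] {G : Over (Spec (CommRingCat.of k))} [GrpObj G]
  {M : Type u} [AddCommGroup M] [Module k M]

section Coeff

variable {B B' : Type u} [CommRing B] [Algebra k B] [CommRing B'] [Algebra k B']

/-- the coefficient of an element of `B ⊗ M` along a linear form on `M`. -/
noncomputable def coeff (ξ : M →ₗ[k] k) (x : B ⊗[k] M) : B :=
  TensorProduct.rid k B (LinearMap.lTensor B ξ x)

theorem coeff_tmul (ξ : M →ₗ[k] k) (b : B) (w : M) : coeff ξ (b ⊗ₜ[k] w) = ξ w • b := by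
  simp [coeff]

theorem coeff_add (ξ : M →ₗ[k] k) (x y : B ⊗[k] M) : coeff ξ (x + y) = coeff ξ x + coeff ξ y := by
  simp [coeff]

theorem coeff_zero (ξ : M →ₗ[k] k) : coeff ξ (0 : B ⊗[k] M) = 0 := by
  simp [coeff]

theorem coeff_Wmap (ξ : M →ₗ[k] k) (φ : B →ₐ[k] B') (x : B ⊗[k] M) :
    coeff ξ (VecGrp.Wmap (M := M) φ x) = φ (coeff ξ x) := by
  induction x using TensorProduct.induction_on with
  | zero => simp [coeff_zero]
  | tmul b w => rw [VecGrp.Wmap_tmul, coeff_tmul, coeff_tmul, map_smul]
  | add x y hx hy => rw [map_add, coeff_add, coeff_add, map_add, hx, hy]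

/-- elements of `B ⊗ M` are separated by the linear forms on `M`. -/
theorem eq_of_forall_coeff {x y : B ⊗[k] M}
    (h : ∀ ξ : M →ₗ[k] k, coeff ξ x = coeff ξ y) : x = y := by
  let b := Module.Basis.ofVectorSpace k M
  have key : ∀ (z : B ⊗[k] M) i, (b.baseChange B).repr z i = coeff (b.coord i) z := by
    intro z i
    induction z using TensorProduct.induction_on with
    | zero => simp [coeff_zero]
    | tmul c w => rw [Module.Basis.baseChange_repr_tmul, coeff_tmul]; rfl
    | add z z' hz hz' => rw [map_add, Finsupp.add_apply, coeff_add, hz, hz']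
  apply (b.baseChange B).ext_elem
  intro i
  rw [key, key, h]

end Coeff

variable (m : VecGrp.GMod G M)

/-- the matrix coefficient of a point. -/
noncomputable def coeffAt (ξ : M →ₗ[k] k) (v : M) (B : Type u) [CommRing B] [Algebra k B]
    (g : sp k B ⟶ G) : B :=
  coeff ξ (m.ρ B g ((1 : B) ⊗ₜ[k] v))

theorem coeffAt_natural (ξ : M →ₗ[k] k) (v : M) (B B' : Type u) [CommRing B] [Algebra k B]
    [CommRing B'] [Algebra k B'] (φ : B →ₐ[k] B') (g : sp k B ⟶ G) :
    coeffAt m ξ v B' (pt φ ≫ g) = φ (coeffAt m ξ v B g) := by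
  have h1 := m.naturality φ g ((1 : B) ⊗ₜ[k] v)
  rw [VecGrp.Wmap_tmul, map_one] at h1
  have h2 : (VecGrp.ptMap φ : sp k B' ⟶ sp k B) = pt φ := by
    apply Over.OverMorphism.ext
    rfl
  unfold coeffAt
  rw [← coeff_Wmap, h1]
  rfl

variable [CompactSpace G.left] [QuasiSeparatedSpace G.left]

/-- matrix coefficients only depend on the image of the point in the affinization. -/
theorem coeffAt_eq_of_affMap_eq (ξ : M →ₗ[k] k) (v : M) (B : Type u) [CommRing B] [Algebra k B]
    (g g' : sp k B ⟶ G) (hg : g ≫ affMap G = g' ≫ affMap G) :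
    coeffAt m ξ v B g = coeffAt m ξ v B g' := by
  obtain ⟨f, hf⟩ := exists_fn_of_natural (X := G) (fun B _ _ g => coeffAt m ξ v B g)
    (fun B B' _ _ _ _ φ g => coeffAt_natural m ξ v B B' φ g)
  have hsurj : Function.Surjective (affMap G).left.appTop :=
    ((ConcreteCategory.isIso_iff_bijective _).1 inferInstance).2
  obtain ⟨f', rfl⟩ := hsurj f
  have key : ∀ h : sp k B ⟶ G, h.left.appTop ((affMap G).left.appTop f') =
      (h ≫ affMap G).left.appTop f' := by
    intro h
    rw [Over.comp_left, Scheme.Hom.comp_appTop]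
    rfl
  rw [← hf B g, ← hf B g', key, key, hg]

/-- **points in the kernel of the affinization act trivially on every `G`-module.** -/
theorem rho_eq_one_of_affMap_eq (B : Type u) [CommRing B] [Algebra k B] (g : sp k B ⟶ G)
    (hg : g ≫ affMap G = (1 : sp k B ⟶ G) ≫ affMap G) : m.ρ B g = 1 := by
  have h1 : ∀ v : M, m.ρ B g ((1 : B) ⊗ₜ[k] v) = (1 : B) ⊗ₜ[k] v := by
    intro v
    apply eq_of_forall_coeff
    intro ξ
    have h2 := coeffAt_eq_of_affMap_eq m ξ v B g 1 hg
    unfold coeffAt at h2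
    rw [h2]
    have h3 : m.ρ B (1 : VecGrp.pt k B ⟶ G) = 1 := map_one (m.ρ B)
    have h4 : m.ρ B (1 : sp k B ⟶ G) ((1 : B) ⊗ₜ[k] v) = (1 : B) ⊗ₜ[k] v := by
      show m.ρ B (1 : VecGrp.pt k B ⟶ G) ((1 : B) ⊗ₜ[k] v) = _
      rw [h3]
      rfl
    rw [h4]
  apply LinearEquiv.ext
  intro x
  induction x using TensorProduct.induction_on with
  | zero => simp
  | tmul c v =>
    have h3 : c ⊗ₜ[k] v = c • ((1 : B) ⊗ₜ[k] v) := by
      rw [TensorProduct.smul_tmul', smul_eq_mul, _root_.mul_one]
    rw [h3, map_smul, h1]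
    rfl
  | add x y hx hy => rw [map_add, hx, hy, map_add]

end Groth.Agent.Lib.Helper84.Affn
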