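import Mathlib
import Groth.Prelude.Def_VecGrp
import Groth.Agent.Lib.Helper84.Affn.GlueFn
import Groth.Agent.Lib.Helper84.Affn.AffineTest
import Groth.Agent.Lib.Helper84.GLnSch

/-!
# The `G`-module attached to a homomorphism to `GL_n` (helper84)
-/

set_option autoImplicit false
set_option linter.unusedSectionVars false
universe u
open CategoryTheory CategoryTheory.Limits MonoidalCategory CartesianMonoidalCategory MonObj
  AlgebraicGeometry CoactBr TensorProduct

namespace Groth.Agent.Lib.Helper84.Affn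

open Groth.Agent.Lib.Helper84.GLnSch

variable {k : Type u} [CommRing k] {n : ℕ}

section Mat

variable (B : Type u) [CommRing B] [Algebra k B]

/-- global functions on `sp k B` are elements of `B`, as a ring isomorphism. -/
noncomputable def gHomR : Γ((sp k B).left, ⊤) →+* B :=
  (Scheme.ΓSpecIso (CommRingCat.of B)).hom.hom

theorem gHomR_apply (s : Γ((sp k B).left, ⊤)) : gHomR (k := k) B s = gHom B s := rfl

theorem gHomR_injective : Function.Injective (gHomR (k := k) B) := by
  intro s s' h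
  rw [← gInv_gHom B s, ← gInv_gHom B s']
  exact congrArg (gInv B) h

/-- the matrix with entries in `B` of a `B`-point of `GL_n`. -/
noncomputable def matB (x : sp k B ⟶ FrB.GLn n (Spec (CommRingCat.of k))) :
    Matrix (Fin n) (Fin n) B := (glMat x).map (gHomR B)

theorem matB_mul (x y : sp k B ⟶ FrB.GLn n (Spec (CommRingCat.of k))) :
    matB B (x * y) = matB B x * matB B y := by
  unfold matB
  rw [glMat_mul, Matrix.map_mul]

theorem matB_one : matB B (1 : sp k B ⟶ FrB.GLn n (Spec (CommRingCat.of k))) = 1 := by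
  unfold matB
  rw [glMat_one, Matrix.map_one _ (map_zero _) (map_one _)]

theorem matB_eq_one_iff (x : sp k B ⟶ FrB.GLn n (Spec (CommRingCat.of k))) :
    matB B x = 1 ↔ x = 1 := by
  constructor
  · intro h
    apply glMat_injective
    rw [glMat_one]
    ext i j
    apply gHomR_injective (k := k) B
    have h1 := congrFun (congrFun h i) j
    unfold matB at h1
    rw [Matrix.map_apply] at h1
    rw [h1, Matrix.one_apply, Matrix.one_apply]
    split_ifs
    · exact (map_one _).symm
    · exact (map_zero _).symm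
  · rintro rfl
    exact matB_one B

variable {B} in
theorem matB_comp {B' : Type u} [CommRing B'] [Algebra k B'] (φ : B →ₐ[k] B')
    (x : sp k B ⟶ FrB.GLn n (Spec (CommRingCat.of k))) :
    matB B' (pt φ ≫ x) = (matB B x).map φ := by
  unfold matB
  rw [glMat_comp]
  ext i j
  simp only [Matrix.map_apply]
  exact gHom_pt_appTop φ _

end Mat

variable {G : Over (Spec (CommRingCat.of k))} [GrpObj G]
  (ρ : G ⟶ FrB.GLn n (Spec (CommRingCat.of k))) [IsMonHom ρ]

/-- the standard basis of `B ⊗ kⁿ`. -/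
noncomputable def stdB (n : ℕ) (B : Type u) [CommRing B] [Algebra k B] :
    Module.Basis (Fin n) B (B ⊗[k] (Fin n → k)) :=
  (Pi.basisFun k (Fin n)).baseChange B

theorem stdB_apply (B : Type u) [CommRing B] [Algebra k B] (j : Fin n) :
    stdB (k := k) n B j = (1 : B) ⊗ₜ[k] (Pi.basisFun k (Fin n) j) :=
  Module.Basis.baseChange_apply _ _ _

/-- the linear automorphism of `B ⊗ kⁿ` attached to a `B`-point. -/
noncomputable def rhoOf (B : Type u) [CommRing B] [Algebra k B] (g : sp k B ⟶ G) :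
    (B ⊗[k] (Fin n → k)) ≃ₗ[B] (B ⊗[k] (Fin n → k)) :=
  LinearEquiv.ofLinearMap (Matrix.toLin (stdB n B) (stdB n B) (matB B (g ≫ ρ)))
    (Matrix.toLin (stdB n B) (stdB n B) (matB B (g⁻¹ ≫ ρ)))
    (by rw [← Matrix.toLin_mul, ← matB_mul, ← MonObj.mul_comp, mul_inv_cancel, MonObj.one_comp,
      matB_one, Matrix.toLin_one])
    (by rw [← Matrix.toLin_mul, ← matB_mul, ← MonObj.mul_comp, inv_mul_cancel, MonObj.one_comp,
      matB_one, Matrix.toLin_one])

theorem rhoOf_apply (B : Type u) [CommRing B] [Algebra k B] (g : sp k B ⟶ G)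
    (x : B ⊗[k] (Fin n → k)) :
    rhoOf ρ B g x = Matrix.toLin (stdB n B) (stdB n B) (matB B (g ≫ ρ)) x := rfl

theorem rhoOf_stdB (B : Type u) [CommRing B] [Algebra k B] (g : sp k B ⟶ G) (j : Fin n) :
    rhoOf ρ B g (stdB n B j) = ∑ i, matB B (g ≫ ρ) i j • stdB n B i := by
  rw [rhoOf_apply, Matrix.toLin_self]

theorem Wmap_stdB {B B' : Type u} [CommRing B] [Algebra k B] [CommRing B'] [Algebra k B']
    (φ : B →ₐ[k] B') (j : Fin n) :
    VecGrp.Wmap (M := Fin n → k) φ (stdB n B j) = stdB n B' j := by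
  rw [stdB_apply, stdB_apply, VecGrp.Wmap_tmul, map_one]

theorem rhoOf_one (B : Type u) [CommRing B] [Algebra k B] :
    rhoOf ρ B (1 : sp k B ⟶ G) = 1 := by
  apply LinearEquiv.ext
  intro x
  rw [rhoOf_apply, MonObj.one_comp, matB_one, Matrix.toLin_one]
  rfl

theorem rhoOf_mul (B : Type u) [CommRing B] [Algebra k B] (g g' : sp k B ⟶ G) :
    rhoOf ρ B (g * g') = rhoOf ρ B g * rhoOf ρ B g' := by
  apply LinearEquiv.ext
  intro x
  rw [rhoOf_apply, MonObj.mul_comp, matB_mul, Matrix.toLin_mul (stdB (k := k) n B) (stdB (k := k) n B),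
    LinearEquiv.mul_apply, rhoOf_apply, rhoOf_apply, LinearMap.comp_apply]

theorem rhoOf_natural {B B' : Type u} [CommRing B] [Algebra k B] [CommRing B'] [Algebra k B']
    (φ : B →ₐ[k] B') (g : sp k B ⟶ G) (x : B ⊗[k] (Fin n → k)) :
    VecGrp.Wmap φ (rhoOf ρ B g x) = rhoOf ρ B' (pt φ ≫ g) (VecGrp.Wmap φ x) := by
  rw [← (stdB n B).sum_repr x]
  simp only [map_sum, map_smul, VecGrp.Wmap_smul]
  refine Finset.sum_congr rfl fun j _ => ?_
  congr 1
  rw [rhoOf_stdB, Wmap_stdB, rhoOf_stdB, Category.assoc, matB_comp]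
  simp only [map_sum, VecGrp.Wmap_smul, Wmap_stdB, Matrix.map_apply]

/-- **the `G`-module structure on `kⁿ` attached to a homomorphism `G ⟶ GL_n`.** -/
noncomputable def gmodOfHom : VecGrp.GMod G (Fin n → k) where
  ρ B _ _ :=
    { toFun := fun g => rhoOf ρ B g
      map_one' := rhoOf_one ρ B
      map_mul' := fun g g' => rhoOf_mul ρ B g g' }
  naturality := by
    intro B B' _ _ _ _ φ g x
    have hpt : (VecGrp.ptMap φ : sp k B' ⟶ sp k B) = pt φ := by
      apply Over.OverMorphism.ext
      rfl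
    show VecGrp.Wmap φ (rhoOf ρ B g x) = rhoOf ρ B' (VecGrp.ptMap φ ≫ g) (VecGrp.Wmap φ x)
    rw [hpt]
    exact rhoOf_natural ρ φ g x

theorem gmodOfHom_apply (B : Type u) [CommRing B] [Algebra k B] (g : sp k B ⟶ G) :
    (gmodOfHom ρ).ρ B g = rhoOf ρ B g := rfl

/-- if the `G`-module of `ρ` is trivial then `ρ` is trivial. -/
theorem eq_one_of_gmodOfHom_trivial
    (h : ∀ (B : Type u) [CommRing B] [Algebra k B] (g : sp k B ⟶ G), (gmodOfHom ρ).ρ B g = 1) :
    ρ = 1 := by
  apply hom_ext_of_affine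
  intro B _ _ s
  rw [MonObj.comp_one]
  rw [← matB_eq_one_iff (k := k)]
  have h1 := h B s
  rw [gmodOfHom_apply] at h1
  have h2 : Matrix.toLin (stdB (k := k) n B) (stdB (k := k) n B) (matB B (s ≫ ρ)) =
      Matrix.toLin (stdB (k := k) n B) (stdB (k := k) n B) 1 := by
    rw [Matrix.toLin_one]
    apply LinearMap.ext
    intro x
    have h3 := congrArg (fun e : (B ⊗[k] (Fin n → k)) ≃ₗ[B] (B ⊗[k] (Fin n → k)) => e x) h1
    exact h3
  exact (Matrix.toLin (stdB (k := k) n B) (stdB (k := k) n B)).injective h2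

end Groth.Agent.Lib.Helper84.Affn
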