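import Mathlib
import Groth.Agent.Lib.Helper84.Affn.Basic

/-!
# Morphisms injective on rational points over an algebraically closed field are quasi-finite
(helper84)
-/

set_option autoImplicit false
universe u
open CategoryTheory CategoryTheory.Limits MonoidalCategory CartesianMonoidalCategory MonObj
  AlgebraicGeometry

namespace Groth.Agent.Lib.Helper84.Affn

/-- Zariski's main theorem: the source of a separated quasi-finite morphism into an affine scheme
is quasi-affine. -/
theorem isQuasiAffine_of_locallyQuasiFinite {X Y : Scheme.{u}} (f : X ⟶ Y) [IsSeparated f]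
    [LocallyQuasiFinite f] [LocallyOfFiniteType f] [QuasiCompact f] [IsAffine Y] :
    X.IsQuasiAffine := by
  have h3 : IsOpenImmersion f.toNormalization := inferInstance
  have h4 : IsAffineHom f.fromNormalization := inferInstance
  have h5 : IsAffine f.normalization := isAffine_of_isAffineHom f.fromNormalization
  have h6 : CompactSpace X := QuasiCompact.compactSpace_of_compactSpace f
  exact Scheme.IsQuasiAffine.of_isImmersion f.toNormalization

variable {K : Type u} [Field K]

/-- two sections of a `K`-scheme with the same image point agree. -/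
theorem section_ext {Y : Scheme.{u}} (p : Y ⟶ Spec (CommRingCat.of K))
    (σ τ : Spec (CommRingCat.of K) ⟶ Y) (hσ : σ ≫ p = 𝟙 _) (hτ : τ ≫ p = 𝟙 _)
    (c : ↥(Spec (CommRingCat.of K))) (H : σ c = τ c) : σ = τ := by
  obtain ⟨⟨y, σ'⟩, rfl⟩ := (Scheme.SpecToEquivOfField K Y).symm.surjective σ
  obtain ⟨⟨y', τ'⟩, rfl⟩ := (Scheme.SpecToEquivOfField K Y).symm.surjective τ
  have hy : y = y' := by
    have e1 : ∀ (w : Y) (ρ : Y.residueField w ⟶ CommRingCat.of K),
        ((Scheme.SpecToEquivOfField K Y).symm ⟨w, ρ⟩) c = w := by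
      intro w ρ
      show (Spec.map ρ ≫ Y.fromSpecResidueField w) c = w
      rw [Scheme.Hom.comp_apply, Scheme.fromSpecResidueField_apply]
    rw [e1, e1] at H
    exact H
  subst hy
  obtain ⟨q', hq'⟩ := Spec.map_surjective (Y.fromSpecResidueField y ≫ p)
  have h1 : q' ≫ σ' = 𝟙 _ := by
    apply Spec.map_injective
    rw [Spec.map_comp, hq', Spec.map_id, ← Category.assoc]
    exact hσ
  have h2 : q' ≫ τ' = 𝟙 _ := by
    apply Spec.map_injective
    rw [Spec.map_comp, hq', Spec.map_id, ← Category.assoc]
    exact hτ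
  have hiso : IsIso σ' := by
    rw [ConcreteCategory.isIso_iff_bijective]
    refine ⟨σ'.hom.injective, ?_⟩
    intro c
    exact ⟨q'.hom c, congrArg (fun m => m.hom c) h1⟩
  have h3 : q' = inv σ' := IsIso.eq_inv_of_inv_hom_id h1
  have hq : IsIso q' := by rw [h3]; infer_instance
  have h4 : σ' = τ' := by
    rw [← cancel_epi q', h1, h2]
  rw [h4]

variable [IsAlgClosed K]

/-- a morphism of `K`-schemes, `K` algebraically closed, with source locally of finite type,
which is injective on rational points is locally quasi-finite. -/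
theorem locallyQuasiFinite_of_injective_on_points {X Y : Scheme.{u}}
    (pX : X ⟶ Spec (CommRingCat.of K)) [LocallyOfFiniteType pX]
    (pY : Y ⟶ Spec (CommRingCat.of K)) (f : X ⟶ Y) (hf : f ≫ pY = pX)
    (hinj : ∀ σ τ : Spec (CommRingCat.of K) ⟶ X, σ ≫ pX = 𝟙 _ → τ ≫ pX = 𝟙 _ →
      σ ≫ f = τ ≫ f → σ = τ) :
    LocallyOfFiniteType f ∧ LocallyQuasiFinite f := by
  have hlft : LocallyOfFiniteType f := by
    have : LocallyOfFiniteType (f ≫ pY) := by rw [hf]; infer_instance
    exact locallyOfFiniteType_of_comp f pY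
  refine ⟨hlft, ?_⟩
  have hJ : JacobsonSpace X := LocallyOfFiniteType.jacobsonSpace pX
  rw [← Scheme.Hom.quasiFiniteLocus_eq_top_iff]
  by_contra hne
  -- a closed point outside the quasi-finite locus
  have hC : ((f.quasiFiniteLocus : Set X)ᶜ).Nonempty := by
    rw [Set.nonempty_compl]
    intro h
    apply hne
    ext1
    exact h
  obtain ⟨h, hhC, hh⟩ := nonempty_inter_closedPoints hC
    (f.quasiFiniteLocus.isOpen.isClosed_compl.isLocallyClosed)
  have hh' : IsClosed {h} := hh
  apply hhC
  show f.QuasiFiniteAt h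
  rw [Scheme.Hom.quasiFiniteAt_iff_isOpen_singleton_asFiber]
  -- the fibre through `h` is the single point `h`
  let c₀ : ↥(Spec (CommRingCat.of K)) := IsLocalRing.closedPoint K
  let σ := pointOfClosedPoint pX h hh'
  have hσ : σ ≫ pX = 𝟙 _ := pointOfClosedPoint_comp pX h hh'
  have hσh : σ c₀ = h := pointOfClosedPoint_apply pX h hh' _
  have hσf : (σ ≫ f) ≫ pY = 𝟙 _ := by rw [Category.assoc, hf, hσ]
  have hcl : IsClosed {f h} := by
    have h1 : IsClosedImmersion (σ ≫ f) := isClosedImmersion_of_comp_eq_id pY (σ ≫ f) hσf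
    have h2 := (σ ≫ f).isClosedEmbedding.isClosed_range
    have h3 : Set.range (σ ≫ f) = {f h} := by
      ext w
      constructor
      · rintro ⟨c, rfl⟩
        have : c = c₀ := Subsingleton.elim _ _
        rw [this]
        show (σ ≫ f) c₀ = f h
        rw [Scheme.Hom.comp_apply, hσh]
      · rintro rfl
        exact ⟨c₀, by rw [Scheme.Hom.comp_apply, hσh]⟩
    rwa [h3] at h2
  have hF : IsClosed (f ⁻¹' {f h}) := hcl.preimage f.continuous
  have hsub : f ⁻¹' {f h} ⊆ {h} := by
    have h1 := JacobsonSpace.closure_inter_closedPoints_eq_closure hF.isLocallyClosed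
    rw [hF.closure_eq] at h1
    rw [← h1]
    apply closure_minimal _ hh'
    rintro z ⟨hz1, hz2⟩
    have hz2' : IsClosed {z} := hz2
    let τ := pointOfClosedPoint pX z hz2'
    have hτ : τ ≫ pX = 𝟙 _ := pointOfClosedPoint_comp pX z hz2'
    have hτz : τ c₀ = z := pointOfClosedPoint_apply pX z hz2' _
    have hτf : (τ ≫ f) ≫ pY = 𝟙 _ := by rw [Category.assoc, hf, hτ]
    have e1 : τ ≫ f = σ ≫ f := by
      apply section_ext pY _ _ hτf hσf c₀
      rw [Scheme.Hom.comp_apply, Scheme.Hom.comp_apply, hτz, hσh]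
      exact hz1
    have e2 : τ = σ := hinj τ σ hτ hσ e1
    show z = h
    rw [← hτz, ← hσh, e2]
  have hss : Subsingleton (f ⁻¹' {f h}) := by
    constructor
    rintro ⟨z, hz⟩ ⟨w, hw⟩
    have hz' : z = h := hsub hz
    have hw' : w = h := hsub hw
    subst hz'
    subst hw'
    rfl
  have hss2 : Subsingleton (f.fiber (f h)) := (f.fiberHomeo (f h)).injective.subsingleton
  exact isOpen_discrete _

end Groth.Agent.Lib.Helper84.Affn
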