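import Mathlib
import Groth.Agent.Lib.Helper84.Affn.QFin
import Groth.Agent.Lib.Helper84.Affn.ChartNoeth
import Groth.Agent.Lib.Helper58.TrivAct4
import Groth.Agent.Lib.Helper26.PseudoTorsor

/-!
# Group schemes over an algebraically closed field with a morphism to an affine scheme injective
on rational points are affine; stabilizers of faithful actions (helper84)
-/

set_option autoImplicit false
set_option linter.unusedSectionVars false
universe u
open CategoryTheory CategoryTheory.Limits MonoidalCategory CartesianMonoidalCategory MonObj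
  AlgebraicGeometry

namespace Groth.Agent.Lib.Helper84.Affn

open Groth.Agent.Lib.Helper14.QuasiAffineGroup

variable {k : Type u} [Field k]

/-- a group scheme of finite type over an algebraically closed field with a morphism to an affine
scheme which is injective on rational points is affine. -/
theorem isAffine_of_injective_on_points [IsAlgClosed k] (H Y : Over (Spec (CommRingCat.of k)))
    [GrpObj H] [LocallyOfFiniteType H.hom] [QuasiCompact H.hom] [IsAffine Y.left] (φ : H ⟶ Y)
    (hinj : ∀ z h : 𝟙_ (Over (Spec (CommRingCat.of k))) ⟶ H, z ≫ φ = h ≫ φ → z = h) :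
    IsAffine H.left := by
  have hsep : IsSeparated H.hom := Groth.Agent.Lib.Helper70.WeilF.isSeparated_grpObj k H
  obtain ⟨hlft, hqf⟩ := locallyQuasiFinite_of_injective_on_points H.hom Y.hom φ.left (Over.w φ) (by
    intro σ τ hσ hτ h
    let z : 𝟙_ (Over (Spec (CommRingCat.of k))) ⟶ H := Over.homMk σ hσ
    let w : 𝟙_ (Over (Spec (CommRingCat.of k))) ⟶ H := Over.homMk τ hτ
    have h1 : z = w := hinj z w (by
      apply Over.OverMorphism.ext
      exact h)
    exact congrArg (fun m => m.left) h1)
  have hsepf : IsSeparated φ.left := by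
    have : IsSeparated (φ.left ≫ Y.hom) := by rw [Over.w]; exact hsep
    exact IsSeparated.of_comp φ.left Y.hom
  have haff : IsAffineHom Y.hom := isAffineHom_of_isAffine Y.hom
  have hqc : QuasiCompact φ.left := by
    have : QuasiCompact (φ.left ≫ Y.hom) := by rw [Over.w]; infer_instance
    exact QuasiCompact.of_comp φ.left Y.hom
  have := isQuasiAffine_of_locallyQuasiFinite φ.left
  exact isAffine_of_isQuasiAffine_grp H

section Restrict

variable {S : Scheme.{u}} {G H X : Over S} [GrpObj G] [GrpObj H]

/-- the restriction of an action along a homomorphism. -/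
noncomputable def resAction (s : H ⟶ G) [IsMonHom s] (a : AlgGrp.Action G X) :
    AlgGrp.Action H X :=
  Groth.Agent.Lib.Helper58.TrivAct4.mkAction ((s ▷ X) ≫ a.act)
    (by
      intro T x
      rw [← Category.assoc, lift_whiskerRight, Category.assoc, IsMonHom.one_hom s,
        ← Hom.one_def]
      exact Groth.Agent.Lib.Helper26.PseudoTorsor.one_smul a.act a.one_act x)
    (by
      intro T g h x
      rw [← Category.assoc, lift_whiskerRight, MonObj.mul_comp,
        ← Category.assoc, lift_whiskerRight, ← Category.assoc, lift_whiskerRight]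
      exact Groth.Agent.Lib.Helper26.PseudoTorsor.mul_smul a.act a.mul_act (g ≫ s) (h ≫ s) x)

theorem lift_resAction (s : H ⟶ G) [IsMonHom s] (a : AlgGrp.Action G X)
    {T : Over S} (h : T ⟶ H) (y : T ⟶ X) :
    lift h y ≫ (resAction s a).act = lift (h ≫ s) y ≫ a.act := by
  show lift h y ≫ (s ▷ X) ≫ a.act = _
  rw [← Category.assoc, lift_whiskerRight]

end Restrict

/-- **stabilizers of rational points under actions faithful on rational points are affine.** -/
theorem isAffine_stabilizer [IsAlgClosed k] (G X : Over (Spec (CommRingCat.of k))) [GrpObj G]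
    [LocallyOfFiniteType G.hom] [QuasiCompact G.hom]
    [IsSeparated X.hom] [IsIntegral X.left] [IsLocallyNoetherian X.left]
    (a : AlgGrp.Action G X)
    (hfaith : ∀ g : 𝟙_ (Over (Spec (CommRingCat.of k))) ⟶ G,
      lift (toUnit X ≫ g) (𝟙 X) ≫ a.act = 𝟙 X → g = η[G])
    (x : 𝟙_ (Over (Spec (CommRingCat.of k))) ⟶ X) (St : Over (Spec (CommRingCat.of k)))
    [GrpObj St] (s : St ⟶ G) [IsMonHom s] [IsClosedImmersion s.left]
    (hs : ∀ (T : Over (Spec (CommRingCat.of k))) (g : T ⟶ G), (∃ t : T ⟶ St, t ≫ s = g) →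
      lift g (toUnit T ≫ x) ≫ a.act = toUnit T ≫ x) :
    IsAffine St.left := by
  have hSt1 : LocallyOfFiniteType St.hom := by
    rw [← Over.w s]; infer_instance
  have hSt2 : QuasiCompact St.hom := by
    rw [← Over.w s]; infer_instance
  obtain ⟨hc1, hc2⟩ := qcqs_of_grp St
  obtain ⟨inst, hmon⟩ := exists_grpObj_affObj St
  have hmono : Mono s := by
    have : Mono s.left := inferInstance
    exact Over.mono_of_mono_left s
  let aS : AlgGrp.Action St X := resAction s a
  have hfix : aS.IsFixedPt x := by
    intro T g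
    rw [lift_resAction]
    exact hs T (g ≫ s) ⟨g, rfl⟩
  apply isAffine_of_injective_on_points St (affObj St) (affMap St)
  intro z h hzh
  have h1 : (z * h⁻¹) ≫ affMap St = (1 : _ ⟶ St) ≫ affMap St := by
    rw [MonObj.mul_comp, GrpObj.inv_comp, hzh, mul_inv_cancel, MonObj.one_comp]
  have h2 : ∀ y : 𝟙_ (Over (Spec (CommRingCat.of k))) ⟶ X,
      lift (z * h⁻¹) y ≫ aS.act = y := fun y => act_eq_of_affMap_eq_noeth aS x hfix _ h1 y
  have h3 : lift (toUnit X ≫ (z * h⁻¹)) (𝟙 X) ≫ aS.act = 𝟙 X :=
    act_eq_of_affMap_eq_noeth aS x hfix _ (by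
      rw [Category.assoc, h1, ← Category.assoc, MonObj.comp_one]) (𝟙 X)
  rw [lift_resAction, Category.assoc] at h3
  have h4 := hfaith _ h3
  have h5 : (z * h⁻¹) ≫ s = (1 : _ ⟶ St) ≫ s := by
    rw [h4, MonObj.one_comp, Hom.one_def]
    congr 1
  have h6 : z * h⁻¹ = 1 := (cancel_mono s).mp h5
  exact mul_inv_eq_one.mp h6

end Groth.Agent.Lib.Helper84.Affn
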